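import Mathlib
import Cfsg.Agent.TcChain36.Fi22.E6.Common

set_option autoImplicit false
set_option maxRecDepth 100000
set_option linter.all false

namespace Cfsg.Agent.TcChain36.Fi22.E6

open Cfsg.Spor Cfsg.Agent.Lib.TcFacts Cfsg.Agent.Lib.TcBits Cfsg.Agent.Lib.TcPres

/-- The letters of the subgroup. -/
abbrev BB : Set Gen := {x | x ∈ ([.c, .d, .e, .f, .h] : List Gen)}

/-- The subgroup. -/
abbrev HH : Subgroup (PresentedGroup RR) := (Subgroup.closure (FreeGroup.of '' BB)).map (PresentedGroup.mk RR)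

/-- Long generators of the subgroup. -/
noncomputable def macros : List (FreeGroup Gen) := []

/-- The relators, as words in letters. -/
def Rels : List (List ℕ) := [
  [0, 0],
  [0, 1, 0, 1, 0, 1],
  [0, 2, 0, 2],
  [0, 3, 0, 3],
  [0, 4, 0, 4],
  [0, 5, 0, 5],
  [1, 0, 1, 0, 1, 0],
  [1, 1],
  [1, 2, 1, 2, 1, 2],
  [1, 3, 1, 3],
  [1, 4, 1, 4, 1, 4],
  [1, 5, 1, 5],
  [2, 0, 2, 0],
  [2, 1, 2, 1, 2, 1],
  [2, 2],
  [2, 3, 2, 3, 2, 3],
  [2, 4, 2, 4],
  [2, 5, 2, 5],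
  [3, 0, 3, 0],
  [3, 1, 3, 1],
  [3, 2, 3, 2, 3, 2],
  [3, 3],
  [3, 4, 3, 4],
  [3, 5, 3, 5],
  [4, 0, 4, 0],
  [4, 1, 4, 1, 4, 1],
  [4, 2, 4, 2],
  [4, 3, 4, 3],
  [4, 4],
  [4, 5, 4, 5, 4, 5],
  [5, 0, 5, 0],
  [5, 1, 5, 1],
  [5, 2, 5, 2],
  [5, 3, 5, 3],
  [5, 4, 5, 4, 5, 4],
  [5, 5],
  [0, 0],
  [0, 0],
  [1, 1],
  [1, 1],
  [2, 2],
  [2, 2],
  [3, 3],
  [3, 3],
  [4, 4],
  [4, 4],
  [5, 5],
  [5, 5]]

/-- The table. -/
noncomputable def T : Tr := (.node (.node (.node (.node (.leaf (nat_lit 0x18a0008148262b48f626a2aa2bd5047a986f00168000817408a60eb4f298b6ac13a272690e00164000812986ab810498da8caad2166a3b2d00128000814407a08e95069c884b10e262110c0012600080fde5a580e3b6928a034f5b51e42b000e600080e5e51c3aa3468e6ee28f8c59ac28000e200080c8f4a000c3a01663024bcc3983e9000c600080b5e4163a82968c56e20a9b41b20a000a4000809d83932e73301446a94b8049232600084000808583102e6280103ca907d6312a07000800008071428da651a48a4401c65128c204000620008058f20a9c4143483a0184cc18b805000480008044b1868e2102861e48c4802071030002a000801c20860030b184142882441040620000000080180102821040420608408108082100000000000000000000000000000000000000))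 (.leaf (nat_lit 0x0))) (.node (.leaf (nat_lit 0x0)) (.leaf (nat_lit 0x0)))) (.node (.node (.leaf (nat_lit 0x0)) (.leaf (nat_lit 0x0))) (.node (.leaf (nat_lit 0x0)) (.leaf (nat_lit 0x0))))) (.node (.node (.node (.leaf (nat_lit 0x3460008289edd0bbb9d6b540e6e7dbdcf43b00324000826d8d4d2fa9c0372eae6656d4c33a003020008254fcca1d9933732c06a44cc493f9002c8000823cbc450f68e2b11a4e2400cc5917002a80008220bbc20f5872af0c4de162bc62180028a00081f42a44818821ad022da004b3f0750024a00081dc29418177b1aaf42d5e049bfa160024000081f00b3aa74744a8e72d1c91a38a120020a00081a82837c936e1a6d82c5e4cab58730020200081d80ab41d267364cd04994c838014001ca00081782731c916119edaacd8048af871001a800081a409ac0ed5c2a0b44b990092c910)) (.leaf (nat_lit 0x0))) (.node (.leaf (nat_lit 0x0)) (.leaf (nat_lit 0x0)))) (.node (.node (.leaf (nat_lit 0x0)) (.leaf (nat_lit 0x0))) (.node (.leaf (nat_lit 0x0)) (.leaf (nat_lit 0x0))))))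

/-- The words. -/
noncomputable def WT : Tr := (.node (.node (.node (.node (.node (.node (.leaf (nat_lit 0x66)) (.leaf (nat_lit 0x525252))) (.node (.leaf (nat_lit 0x1414)) (.leaf (nat_lit 0x0)))) (.node (.node (.leaf (nat_lit 0x5454)) (.leaf (nat_lit 0x0))) (.node (.leaf (nat_lit 0x44)) (.leaf (nat_lit 0x0))))) (.node (.node (.node (.leaf (nat_lit 0x6464)) (.leaf (nat_lit 0x0))) (.node (.leaf (nat_lit 0x323232)) (.leaf (nat_lit 0x0)))) (.node (.node (.leaf (nat_lit 0x252525)) (.leaf (nat_lit 0x0))) (.node (.leaf (nat_lit 0x4646)) (.leaf (nat_lit 0x0)))))) (.node (.node (.node (.node (.leaf (nat_lit 0x6262)) (.leaf (nat_lit 0x656565))) (.node (.leaf (nat_lit 0x1616)) (.leaf (nat_lit 0x0)))) (.node (.node (.leaf (nat_lit 0x22)) (.leaf (nat_lit 0x0))) (.node (.leaf (nat_lit 0x434343)) (.leaf (nat_lit 0x0))))) (.node (.node (.node (.leaf (nat_lit 0x5151)) (.leaf (nat_lit 0x0))) (.node (.leaf (nat_lit 0x3636)) (.leaf (nat_lit 0x0))))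 (.node (.node (.leaf (nat_lit 0x11)) (.leaf (nat_lit 0x0))) (.node (.leaf (nat_lit 0x232323)) (.leaf (nat_lit 0x0))))))) (.node (.node (.node (.node (.node (.leaf (nat_lit 0x6161)) (.leaf (nat_lit 0x343434))) (.node (.leaf (nat_lit 0x1515)) (.leaf (nat_lit 0x0)))) (.node (.node (.leaf (nat_lit 0x565656)) (.leaf (nat_lit 0x0))) (.node (.leaf (nat_lit 0x4242)) (.leaf (nat_lit 0x0))))) (.node (.node (.node (.leaf (nat_lit 0x55)) (.leaf (nat_lit 0x0))) (.node (.leaf (nat_lit 0x3535)) (.leaf (nat_lit 0x0)))) (.node (.node (.leaf (nat_lit 0x2626)) (.leaf (nat_lit 0x0))) (.node (.leaf (nat_lit 0x212121)) (.leaf (nat_lit 0x0)))))) (.node (.node (.node (.node (.leaf (nat_lit 0x6363)) (.leaf (nat_lit 0x1313))) (.node (.leaf (nat_lit 0x33)) (.leaf (nat_lit 0x0)))) (.node (.node (.leaf (nat_lit 0x2424)) (.leaf (nat_lit 0x0))) (.node (.leaf (nat_lit 0x4545)) (.leaf (nat_lit 0x0))))) (.node (.node (.node (.leaf (nat_lit 0x5353)) (.leaf (nat_lit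 0x0))) (.node (.leaf (nat_lit 0x3131)) (.leaf (nat_lit 0x0)))) (.node (.node (.leaf (nat_lit 0x121212)) (.leaf (nat_lit 0x0))) (.node (.leaf (nat_lit 0x4141)) (.leaf (nat_lit 0x0))))))))

/-- Side data. -/
noncomputable def ST : Tr := (.leaf (nat_lit 0x0))

/-- Hints for the words. -/
noncomputable def HT : Tr := (.node (.node (.node (.node (.node (.node (.leaf (nat_lit 0x23)) (.leaf (nat_lit 0xa))) (.node (.leaf (nat_lit 0x1003)) (.leaf (nat_lit 0x0)))) (.node (.node (.leaf (nat_lit 0x16)) (.leaf (nat_lit 0x0))) (.node (.leaf (nat_lit 0x15)) (.leaf (nat_lit 0x0))))) (.node (.node (.node (.leaf (nat_lit 0x17)) (.leaf (nat_lit 0x0))) (.node (.leaf (nat_lit 0x8)) (.leaf (nat_lit 0x0)))) (.node (.node (.leaf (nat_lit 0x100a)) (.leaf (nat_lit 0x0))) (.node (.leaf (nat_lit 0x1017)) (.leaf (nat_lit 0x0)))))) (.node (.node (.node (.node (.leaf (nat_lit 0xb)) (.leaf (nat_lit 0x1d))) (.node (.leaf (nat_lit 0x1005)) (.leaf (nat_lit 0x0))))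 (.node (.node (.leaf (nat_lit 0x7)) (.leaf (nat_lit 0x0))) (.node (.leaf (nat_lit 0xf)) (.leaf (nat_lit 0x0))))) (.node (.node (.node (.leaf (nat_lit 0x4)) (.leaf (nat_lit 0x0))) (.node (.leaf (nat_lit 0x1011)) (.leaf (nat_lit 0x0)))) (.node (.node (.leaf (nat_lit 0x0)) (.leaf (nat_lit 0x0))) (.node (.leaf (nat_lit 0x1008)) (.leaf (nat_lit 0x0))))))) (.node (.node (.node (.node (.node (.leaf (nat_lit 0x5)) (.leaf (nat_lit 0x100f))) (.node (.leaf (nat_lit 0x1004)) (.leaf (nat_lit 0x0)))) (.node (.node (.leaf (nat_lit 0x101d)) (.leaf (nat_lit 0x0))) (.node (.leaf (nat_lit 0x9)) (.leaf (nat_lit 0x0))))) (.node (.node (.node (.leaf (nat_lit 0x1c)) (.leaf (nat_lit 0x0))) (.node (.leaf (nat_lit 0x1010)) (.leaf (nat_lit 0x0)))) (.node (.node (.leaf (nat_lit 0x100b)) (.leaf (nat_lit 0x0))) (.node (.leaf (nat_lit 0x1)) (.leaf (nat_lit 0x0)))))) (.node (.node (.node (.node (.leaf (nat_lit 0x11)) (.leaf (nat_lit 0x1002))) (.node (.leaf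 (nat_lit 0xe)) (.leaf (nat_lit 0x0)))) (.node (.node (.leaf (nat_lit 0x1009)) (.leaf (nat_lit 0x0))) (.node (.leaf (nat_lit 0x1016)) (.leaf (nat_lit 0x0))))) (.node (.node (.node (.leaf (nat_lit 0x10)) (.leaf (nat_lit 0x0))) (.node (.leaf (nat_lit 0x2)) (.leaf (nat_lit 0x0)))) (.node (.node (.leaf (nat_lit 0x1001)) (.leaf (nat_lit 0x0))) (.node (.leaf (nat_lit 0x3)) (.leaf (nat_lit 0x0))))))))

/-- An entry of the table. -/
noncomputable def ent (u a : ℕ) : ℕ :=
  Nat.land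
    (Nat.shiftRight
      (Nat.rec (motive := fun _ => ℕ) (Tr.get T 0) (fun m _ => Tr.get T (Nat.succ m))
        (Nat.shiftRight u 4))
      (Nat.add (Nat.mul (Nat.land u 15) 152) (Nat.mul a 19)))
    524287

/-- The parent of a label. -/
noncomputable def pa (v : ℕ) : ℕ := ent v 7

/-- A word. -/
noncomputable def wd (k : ℕ) : ℕ := Tr.get WT k

/-- Side data. -/
noncomputable def side (k : ℕ) : ℕ :=
  Nat.land
    (Nat.shiftRight
      (Nat.rec (motive := fun _ => ℕ) (Tr.get ST 0) (fun m _ => Tr.get ST (Nat.succ m))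
        (Nat.shiftRight k 5))
      (Nat.mul (Nat.land k 31) 16))
    65535

/-- A hint. -/
noncomputable def hint (k : ℕ) : ℕ := Tr.get HT k

/-- The letters of the subgroup. -/
def baseL : List ℕ := [0, 1, 2, 3, 4]

/-- Is a letter in the subgroup. -/
noncomputable def base (a : ℕ) : Bool := baseL.contains a

/-- The check of a row. -/
noncomputable def F : ℕ → Bool :=
  rowF ent pa wd side base 6 31 5 11 255 4 15 2 7 63 36 32 256

/-- Being alive. -/
noncomputable def al : ℕ → Bool := aliveB ent 6 32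

end Cfsg.Agent.TcChain36.Fi22.E6
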